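import Cfsg.Agent.Lib.McLTwoA8.Whole.Tab
import Cfsg.Agent.Lib.McLTwoA8.Whole.Seg0
import Cfsg.Agent.Lib.McLTwoA8.Whole.Seg1
import Cfsg.Agent.Lib.McLTwoA8.Whole.Seg2
import Cfsg.Agent.Lib.McLTwoA8.Whole.Seg3
import Cfsg.Agent.Lib.McLTwoA8.Whole.Seg4
import Cfsg.Agent.Lib.McLTwoA8.Whole.Seg5
import Cfsg.Agent.Lib.McLTwoA8.Whole.Seg6
import Cfsg.Agent.Lib.McLTwoA8.Whole.Seg7
import Cfsg.Agent.Lib.McLTwoA8.Whole.Seg8
import Cfsg.Agent.Lib.McLTwoA8.Whole.Seg9

/-! The coset enumeration over the double cover. -/

set_option autoImplicit false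
set_option maxRecDepth 100000
set_option Elab.async false

namespace Cfsg.Agent.McLTwoA8.Whole

open Cfsg.Agent.CosetCert

theorem treeRun_ok : stIs (runList (treeStep P) tree ⟨1, 0, []⟩) 22275 mask0 = true := by decide +kernel

/-- The phases. -/
def phases : List Phase :=
  seg0 ++ (seg1 ++ (seg2 ++ (seg3 ++ (seg4 ++ (seg5 ++ (seg6 ++ (seg7 ++ (seg8 ++ (seg9 ++ (seg10 ++ (seg11 ++ (seg12 ++ (seg13 ++ (seg14 ++ (seg15 ++ (seg16 ++ (seg17 ++ (seg18 ++ (seg19 ++ (seg20 ++ (seg21 ++ (seg22 ++ (seg23 ++ (seg24 ++ (seg25 ++ (seg26 ++ (seg27 ++ (seg28))))))))))))))))))))))))))))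

theorem cert_ok : checkCert P 22275 tree phases = true :=
  checkCert_of_run P treeRun_ok (run_append P seg0_ok (run_append P seg1_ok (run_append P seg2_ok (run_append P seg3_ok (run_append P seg4_ok (run_append P seg5_ok (run_append P seg6_ok (run_append P seg7_ok (run_append P seg8_ok (run_append P seg9_ok (run_append P seg10_ok (run_append P seg11_ok (run_append P seg12_ok (run_append P seg13_ok (run_append P seg14_ok (run_append P seg15_ok (run_append P seg16_ok (run_append P seg17_ok (run_append P seg18_ok (run_append P seg19_ok (run_append P seg20_ok (run_append P seg21_ok (run_append P seg22_ok (run_append P seg23_ok (run_append P seg24_ok (run_append P seg25_ok (run_append P seg26_ok (run_append P seg27_ok (run_last P seg28_ok)))))))))))))))))))))))))))))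

theorem gen0_ok : genOK P 22275 0 = true := by decide +kernel

theorem gen1_ok : genOK P 22275 1 = true := by decide +kernel

theorem gen2_ok : genOK P 22275 2 = true := by decide +kernel

theorem gen3_ok : genOK P 22275 3 = true := by decide +kernel

theorem gen4_ok : genOK P 22275 4 = true := by decide +kernel

theorem gen5_ok : genOK P 22275 5 = true := by decide +kernel

theorem gen6_ok : genOK P 22275 6 = true := by decide +kernel

theorem tab_ok : tableOK P 22275 = true := tableOK_of_gens P (by decide +kernel) (by decide +kernel) fun x hx =>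
  match x, hx with
  | 0, _ => gen0_ok
  | 1, _ => gen1_ok
  | 2, _ => gen2_ok
  | 3, _ => gen3_ok
  | 4, _ => gen4_ok
  | 5, _ => gen5_ok
  | 6, _ => gen6_ok
  | _ + 7, hx => absurd (show _ + 7 < 7 from hx) (by omega)

theorem rots_ok : rotsOK base rots.entries hints = true := by decide +kernel

end Cfsg.Agent.McLTwoA8.Whole
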